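import Groth.Agent.GrModX.Sections
import Groth.Agent.LC.CohDT
import Groth.Agent.S15549

/-!
# The ideal transform of a graded module and the sections of its twists on Proj
-/

set_option autoImplicit false
set_option linter.unusedSectionVars false
set_option linter.style.haveILetI false

noncomputable section

universe u

open CategoryTheory AlgebraicGeometry TopologicalSpace DirectSum Opposite Groth.Agent.GrModX Groth.Agent.LC

namespace Groth.Agent.GammaStar6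

variable {R σ : Type u} [CommRing R] [SetLike σ R] [AddSubgroupClass σ R] (𝒜 : ℕ → σ) [GradedRing 𝒜]
variable {M τ : Type u} [AddCommGroup M] [Module R M] [SetLike τ M] [AddSubgroupClass τ M] (ℳ : ℕ → τ)
variable [SetLike.GradedSMul 𝒜 ℳ] [DirectSum.Decomposition ℳ]

/-- The component in an integral degree. -/
def cmp (z : ℤ) : M →+ M :=
  AddMonoidHom.mk' (fun m => if 0 ≤ z then (decompose ℳ m z.toNat : M) else 0) fun a b => by
    by_cases h : 0 ≤ z <;> simp [h]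

theorem cmp_of_mem {i : ℕ} {t : M} (ht : t ∈ ℳ i) (z : ℤ) : cmp ℳ z t = if (i : ℤ) = z then t else 0 := by
  show (if 0 ≤ z then (decompose ℳ t z.toNat : M) else 0) = _
  by_cases h : (i : ℤ) = z
  · subst h; simp [decompose_of_mem_same ℳ ht]
  · rw [if_neg h]
    split_ifs with h0
    · exact decompose_of_mem_ne ℳ ht (by omega)
    · rfl

theorem cmp_natCast (i : ℕ) (m : M) : cmp ℳ (i : ℤ) m = (decompose ℳ m i : M) := by
  show (if (0 : ℤ) ≤ (i : ℤ) then (decompose ℳ m (i : ℤ).toNat : M) else 0) = _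
  simp

theorem deg_cmp (z : ℤ) (m : M) : Deg ℳ z (cmp ℳ z m) := by
  show Deg ℳ z (if 0 ≤ z then (decompose ℳ m z.toNat : M) else 0)
  split_ifs with h
  · exact Or.inr ⟨z.toNat, Int.toNat_of_nonneg h, SetLike.coe_mem _⟩
  · exact Deg.zero z

theorem cmp_of_deg {z : ℤ} {m : M} (hm : Deg ℳ z m) (z' : ℤ) : cmp ℳ z' m = if z = z' then m else 0 := by
  rcases hm with rfl | ⟨i, rfl, hi⟩
  · simp
  · exact cmp_of_mem ℳ hi z'

include 𝒜 in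
theorem cmp_smul {d : ℕ} {a : R} (ha : a ∈ 𝒜 d) (z : ℤ) (m : M) :
    cmp ℳ ((d : ℤ) + z) (a • m) = a • cmp ℳ z m := by
  classical
  induction m using DirectSum.Decomposition.inductionOn ℳ with
  | zero => simp
  | homogeneous t =>
    rename_i i
    rw [cmp_of_mem ℳ t.2, cmp_of_deg ℳ ((deg_of_mem (ℳ := ℳ) t.2).smul 𝒜 ha)]
    by_cases h : (i : ℤ) = z
    · rw [if_pos h, if_pos (by omega)]
    · rw [if_neg h, if_neg (by omega), smul_zero]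
  | add x y hx hy => simp only [smul_add, map_add, hx, hy]

/-- The irrelevant ideal. -/
abbrev irr : Ideal R := (HomogeneousIdeal.irrelevant 𝒜).toIdeal

theorem isHomogeneous_pow (k : ℕ) : ((irr 𝒜) ^ k).IsHomogeneous 𝒜 := by
  induction k with
  | zero => rw [pow_zero, Ideal.one_eq_top]; exact Ideal.IsHomogeneous.top 𝒜
  | succ k ih => rw [pow_succ]; exact ih.mul (HomogeneousIdeal.irrelevant 𝒜).isHomogeneous

theorem exists_den (k : ℕ) (y : ProjectiveSpectrum 𝒜) :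
    ∃ (g : R) (e : ℕ), g ∈ 𝒜 e ∧ g ∈ (irr 𝒜) ^ k ∧ g ∉ y.asHomogeneousIdeal := by
  classical
  obtain ⟨r, hr, hry⟩ := SetLike.not_le_iff_exists.1 y.not_irrelevant_le
  obtain ⟨d, hd⟩ : ∃ d, (decompose 𝒜 r d : R) ∉ y.asHomogeneousIdeal := by
    by_contra h
    push Not at h
    exact hry (show r ∈ y.asHomogeneousIdeal.toIdeal by
      rw [← sum_support_decompose 𝒜 r]; exact Ideal.sum_mem _ fun d _ => h d)
  have hd' : (decompose 𝒜 r d : R) ∈ (irr 𝒜) := (HomogeneousIdeal.irrelevant 𝒜).isHomogeneous d hr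
  exact ⟨(decompose 𝒜 r d : R) ^ k, k * d, pow_mem_deg 𝒜 (SetLike.coe_mem _) k, Ideal.pow_mem_pow hd' k,
    GrModX.pow_notMem y.isPrime hd k⟩

variable {𝒜} in
/-- A map on a power of the irrelevant ideal. -/
abbrev app {k : ℕ} (φ : pObj (irr 𝒜) k ⟶ ModuleCat.of R M) {g : R} (hg : g ∈ (irr 𝒜) ^ k) : M := φ.hom ⟨g, hg⟩

theorem frac_eq {k : ℕ} (φ : pObj (irr 𝒜) k ⟶ ModuleCat.of R M) (n : ℤ) {f g : R} {d e : ℕ}
    (hf : f ∈ 𝒜 d) (hg : g ∈ 𝒜 e) (hfk : f ∈ (irr 𝒜) ^ k) (hgk : g ∈ (irr 𝒜) ^ k) :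
    g • cmp ℳ ((d : ℤ) + n) (app φ hfk) = f • cmp ℳ ((e : ℤ) + n) (app φ hgk) := by
  have h : g • app φ hfk = f • app φ hgk := by
    show g • φ.hom ⟨f, hfk⟩ = f • φ.hom ⟨g, hgk⟩
    rw [← map_smul, ← map_smul]
    exact congrArg φ.hom (Subtype.ext (mul_comm g f))
  rw [← cmp_smul 𝒜 ℳ hg, ← cmp_smul 𝒜 ℳ hf, h]
  exact congrArg (fun z => cmp ℳ z (f • app φ hgk)) (by ring)

theorem mk_frac_eq {k : ℕ} (φ : pObj (irr 𝒜) k ⟶ ModuleCat.of R M) (n : ℤ) {f g : R} {d e : ℕ}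
    (hf : f ∈ 𝒜 d) (hg : g ∈ 𝒜 e) (hfk : f ∈ (irr 𝒜) ^ k) (hgk : g ∈ (irr 𝒜) ^ k) (y : ProjectiveSpectrum 𝒜)
    (hfy : f ∉ y.asHomogeneousIdeal) (hgy : g ∉ y.asHomogeneousIdeal) :
    (LocalizedModule.mk (cmp ℳ ((d : ℤ) + n) (app φ hfk)) ⟨f, hfy⟩ : GrMod.LocMod 𝒜 (M := M) y) =
      LocalizedModule.mk (cmp ℳ ((e : ℤ) + n) (app φ hgk)) ⟨g, hgy⟩ := by
  rw [LocalizedModule.mk_eq]
  refine ⟨1, ?_⟩
  simp only [one_smul, Submonoid.smul_def]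
  exact frac_eq 𝒜 ℳ φ n hf hg hfk hgk

theorem exists_sec {k : ℕ} (φ : pObj (irr 𝒜) k ⟶ ModuleCat.of R M) (n : ℤ) :
    ∃ s : Γ(GrMod.tilde 𝒜 ℳ n, (⊤ : (Proj 𝒜).Opens)), ∀ (y : (⊤ : (Proj 𝒜).Opens)) (g : R) (e : ℕ)
      (_ : g ∈ 𝒜 e) (hgk : g ∈ (irr 𝒜) ^ k) (hgy : g ∉ y.1.asHomogeneousIdeal),
      GrMod.val s y = LocalizedModule.mk (cmp ℳ ((e : ℤ) + n) (app φ hgk)) ⟨g, hgy⟩ := by
  choose g e hg hgk hgy using exists_den 𝒜 k
  refine ⟨(show GrMod.sect 𝒜 ℳ n (op ⊤) from ⟨fun y => ⟨LocalizedModule.mk (cmp ℳ ((e y.1 : ℤ) + n) (app φ (hgk y.1)))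
    ⟨g y.1, hgy y.1⟩, mk_mem_tildeAt 𝒜 ℳ n y.1 (hg y.1) (hgy y.1) (deg_cmp ℳ _ _)⟩, fun x => ?_⟩), ?_⟩
  · have hle : (ProjectiveSpectrum.basicOpen 𝒜 (g x.1) : Opens (ProjectiveSpectrum.top 𝒜)) ≤ ⊤ := le_top
    rcases deg_cmp ℳ ((e x.1 : ℤ) + n) (app φ (hgk x.1)) with h0 | ⟨i, hi, hm⟩
    · exact ⟨_, hgy x.1, homOfLE hle, 0, e x.1, ⟨0, zero_mem _⟩, ⟨g x.1, hg x.1⟩, fun z => z.2, Or.inr rfl,
        fun z => (mk_frac_eq 𝒜 ℳ φ n (hg _) (hg x.1) (hgk _) (hgk x.1) z.1 (hgy z.1) z.2).trans (by rw [h0])⟩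
    · exact ⟨_, hgy x.1, homOfLE hle, i, e x.1, ⟨_, hm⟩, ⟨g x.1, hg x.1⟩, fun z => z.2, Or.inl hi,
        fun z => mk_frac_eq 𝒜 ℳ φ n (hg _) (hg x.1) (hgk _) (hgk x.1) z.1 (hgy z.1) z.2⟩
  · intro y g' e' hg' hgk' hgy'
    exact mk_frac_eq 𝒜 ℳ φ n (hg y.1) hg' (hgk y.1) hgk' y.1 (hgy y.1) hgy'

/-- The section attached to a map on a power of the irrelevant ideal. -/
def sec {k : ℕ} (φ : pObj (irr 𝒜) k ⟶ ModuleCat.of R M) (n : ℤ) : Γ(GrMod.tilde 𝒜 ℳ n, (⊤ : (Proj 𝒜).Opens)) :=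
  (exists_sec 𝒜 ℳ φ n).choose

theorem val_sec {k : ℕ} (φ : pObj (irr 𝒜) k ⟶ ModuleCat.of R M) (n : ℤ) (y : (⊤ : (Proj 𝒜).Opens)) {g : R} {e : ℕ}
    (hg : g ∈ 𝒜 e) (hgk : g ∈ (irr 𝒜) ^ k) (hgy : g ∉ y.1.asHomogeneousIdeal) :
    GrMod.val (sec 𝒜 ℳ φ n) y = LocalizedModule.mk (cmp ℳ ((e : ℤ) + n) (app φ hgk)) ⟨g, hgy⟩ :=
  (exists_sec 𝒜 ℳ φ n).choose_spec y g e hg hgk hgy

theorem sec_add {k : ℕ} (φ ψ : pObj (irr 𝒜) k ⟶ ModuleCat.of R M) (n : ℤ) :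
    sec 𝒜 ℳ (φ + ψ) n = sec 𝒜 ℳ φ n + sec 𝒜 ℳ ψ n := by
  refine GrModX.ext_val 𝒜 ℳ fun y => ?_
  obtain ⟨g, e, hg, hgk, hgy⟩ := exists_den 𝒜 k y.1
  refine (val_sec 𝒜 ℳ (φ + ψ) n y hg hgk hgy).trans ?_
  show _ = GrMod.val (sec 𝒜 ℳ φ n) y + GrMod.val (sec 𝒜 ℳ ψ n) y
  rw [val_sec 𝒜 ℳ φ n y hg hgk hgy, val_sec 𝒜 ℳ ψ n y hg hgk hgy, LocalizedModule.mk_add_mk, LocalizedModule.mk_eq]
  refine ⟨1, ?_⟩
  simp only [one_smul, Submonoid.smul_def, Submonoid.coe_mul]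
  rw [show app (φ + ψ) hgk = app φ hgk + app ψ hgk from rfl, map_add, mul_smul, ← smul_add]

theorem sec_pMap {k l : ℕ} (h : k ≤ l) (φ : pObj (irr 𝒜) k ⟶ ModuleCat.of R M) (n : ℤ) :
    sec 𝒜 ℳ (pMap (irr 𝒜) h ≫ φ) n = sec 𝒜 ℳ φ n := by
  refine GrModX.ext_val 𝒜 ℳ fun y => ?_
  obtain ⟨g, e, hg, hgl, hgy⟩ := exists_den 𝒜 l y.1
  rw [val_sec 𝒜 ℳ _ n y hg hgl hgy, val_sec 𝒜 ℳ φ n y hg (Ideal.pow_le_pow_right h hgl) hgy]
  rfl

variable [IsNoetherianRing R]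

theorem exists_gens : ∃ (N : ℕ) (f : Fin N → R) (d : Fin N → ℕ), (∀ j, 0 < d j) ∧ (∀ j, f j ∈ 𝒜 (d j)) ∧
    (∀ j, f j ∈ (irr 𝒜)) ∧ (irr 𝒜) = Ideal.span (Set.range f) := by
  classical
  obtain ⟨T, hT⟩ := IsNoetherian.noetherian (irr 𝒜)
  let P : Finset (R × ℕ) := T.biUnion fun r => (decompose 𝒜 r).support.image fun d => (r, d)
  let ep := P.equivFin.symm
  refine ⟨P.card, fun j => (decompose 𝒜 (ep j).1.1 (ep j).1.2 : R), fun j => (ep j).1.2, fun j => ?_,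
    fun j => SetLike.coe_mem _, fun j => ?_, le_antisymm ?_ (Ideal.span_le.2 ?_)⟩
  · obtain ⟨r, hr, hj⟩ := Finset.mem_biUnion.1 (ep j).2
    obtain ⟨d, hd, hjd⟩ := Finset.mem_image.1 hj
    show 0 < (ep j).1.2
    rw [← hjd]
    refine Nat.pos_of_ne_zero fun h0 => DFinsupp.mem_support_iff.1 hd (Subtype.ext ?_)
    have hr' : r ∈ (irr 𝒜) := hT.le (Ideal.subset_span hr)
    have := (HomogeneousIdeal.mem_irrelevant_iff 𝒜 r).1 hr'
    rw [GradedRing.proj_apply] at this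
    simp only at h0
    subst h0
    exact this
  · obtain ⟨r, hr, hj⟩ := Finset.mem_biUnion.1 (ep j).2
    obtain ⟨d, -, hjd⟩ := Finset.mem_image.1 hj
    show (decompose 𝒜 (ep j).1.1 (ep j).1.2 : R) ∈ (irr 𝒜)
    rw [← hjd]
    exact (HomogeneousIdeal.irrelevant 𝒜).isHomogeneous d (hT.le (Ideal.subset_span hr))
  · refine hT.ge.trans (Ideal.span_le.2 fun r hr => ?_)
    rw [SetLike.mem_coe, ← sum_support_decompose 𝒜 r]
    refine Ideal.sum_mem _ fun d hd => Ideal.subset_span ?_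
    exact ⟨ep.symm ⟨(r, d), Finset.mem_biUnion.2 ⟨r, hr, Finset.mem_image.2 ⟨d, hd, rfl⟩⟩⟩,
      congrArg (fun p : P => (decompose 𝒜 p.1.1 p.1.2 : R)) (ep.apply_symm_apply _)⟩
  · rintro _ ⟨j, rfl⟩
    obtain ⟨r, hr, hj⟩ := Finset.mem_biUnion.1 (ep j).2
    obtain ⟨d, -, hjd⟩ := Finset.mem_image.1 hj
    show (decompose 𝒜 (ep j).1.1 (ep j).1.2 : R) ∈ (irr 𝒜)
    rw [← hjd]
    exact (HomogeneousIdeal.irrelevant 𝒜).isHomogeneous d (hT.le (Ideal.subset_span hr))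

theorem exists_gen_notMem {N : ℕ} {f : Fin N → R} (hf : (irr 𝒜) = Ideal.span (Set.range f)) (y : ProjectiveSpectrum 𝒜) :
    ∃ j, f j ∉ y.asHomogeneousIdeal := by
  by_contra h
  push Not at h
  exact y.not_irrelevant_le (show (irr 𝒜) ≤ y.asHomogeneousIdeal.toIdeal from hf.le.trans (Ideal.span_le.2 fun r ⟨j, hj⟩ => hj ▸ h j))

/-- The direct sum of the groups of sections. -/
abbrev Gam : Type u := DirectSum ℤ (fun n : ℤ => ((GrMod.tilde 𝒜 ℳ n).val.obj (op ⊤) : Type u))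

theorem exists_sum {k : ℕ} (φ : pObj (irr 𝒜) k ⟶ ModuleCat.of R M) : ∃ v : Gam 𝒜 ℳ, ∀ n, v n = sec 𝒜 ℳ φ n := by
  classical
  obtain ⟨N, f, d, -, hfd, hfa, hspan⟩ := exists_gens 𝒜
  let T : Finset ℤ := Finset.univ.biUnion fun j : Fin N =>
    (decompose ℳ (app φ (Ideal.pow_mem_pow (hfa j) k))).support.image fun i : ℕ => (i : ℤ) - ((k * d j : ℕ) : ℤ)
  refine ⟨DFinsupp.mk T fun n => sec 𝒜 ℳ φ n.1, fun n => ?_⟩
  rw [DFinsupp.mk_apply]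
  split_ifs with hn
  · rfl
  · symm
    refine GrModX.ext_val 𝒜 ℳ fun y => ?_
    obtain ⟨j, hj⟩ := exists_gen_notMem 𝒜 hspan y.1
    refine (val_sec 𝒜 ℳ φ n y (pow_mem_deg 𝒜 (hfd j) k) (Ideal.pow_mem_pow (hfa j) k)
      (GrModX.pow_notMem y.1.isPrime hj k)).trans ?_
    rw [show cmp ℳ (((k * d j : ℕ) : ℤ) + n) (app φ (Ideal.pow_mem_pow (hfa j) k)) = 0 from ?_, LocalizedModule.zero_mk]
    · rfl
    · by_contra hne
      refine hn (Finset.mem_biUnion.2 ⟨j, Finset.mem_univ j, Finset.mem_image.2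
        ⟨(((k * d j : ℕ) : ℤ) + n).toNat, DFinsupp.mem_support_iff.2 fun h0 => hne ?_, ?_⟩⟩)
      · show (if 0 ≤ ((k * d j : ℕ) : ℤ) + n then (decompose ℳ _ _ : M) else 0) = 0
        rw [h0]; simp
      · have : 0 ≤ ((k * d j : ℕ) : ℤ) + n := by
          by_contra hlt
          exact hne (if_neg hlt)
        omega

/-- The element of the direct sum attached to a map. -/
def toSum {k : ℕ} (φ : pObj (irr 𝒜) k ⟶ ModuleCat.of R M) : Gam 𝒜 ℳ := (exists_sum 𝒜 ℳ φ).choose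

theorem toSum_apply {k : ℕ} (φ : pObj (irr 𝒜) k ⟶ ModuleCat.of R M) (n : ℤ) : toSum 𝒜 ℳ φ n = sec 𝒜 ℳ φ n :=
  (exists_sum 𝒜 ℳ φ).choose_spec n

theorem toSum_add {k : ℕ} (φ ψ : pObj (irr 𝒜) k ⟶ ModuleCat.of R M) :
    toSum 𝒜 ℳ (φ + ψ) = toSum 𝒜 ℳ φ + toSum 𝒜 ℳ ψ :=
  DFinsupp.ext fun n => by rw [DFinsupp.add_apply, toSum_apply, toSum_apply, toSum_apply, sec_add]; rfl

theorem toSum_pMap {k l : ℕ} (h : k ≤ l) (φ : pObj (irr 𝒜) k ⟶ ModuleCat.of R M) :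
    toSum 𝒜 ℳ (pMap (irr 𝒜) h ≫ φ) = toSum 𝒜 ℳ φ :=
  DFinsupp.ext fun n => by rw [toSum_apply, toSum_apply, sec_pMap]

/-- `toSum` as an additive map. -/
def toSumHom (k : ℕ) : (pObj (irr 𝒜) k ⟶ ModuleCat.of R M) →+ Gam 𝒜 ℳ := AddMonoidHom.mk' (toSum 𝒜 ℳ) (toSum_add 𝒜 ℳ)

theorem toSum_eq_of_toD_eq {k l : ℕ} (φ : pObj (irr 𝒜) k ⟶ ModuleCat.of R M) (ψ : pObj (irr 𝒜) l ⟶ ModuleCat.of R M)
    (h : toD (irr 𝒜) _ k φ = toD (irr 𝒜) _ l ψ) : toSum 𝒜 ℳ φ = toSum 𝒜 ℳ ψ := by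
  let χ := pMap (irr 𝒜) (le_max_left k l) ≫ φ - pMap (irr 𝒜) (le_max_right k l) ≫ ψ
  have hz : toD (irr 𝒜) _ (max k l) χ = 0 := by
    rw [map_sub, toD_res, toD_res, h, sub_self]
  obtain ⟨m, hm, h0⟩ := (toD_eq_zero_iff (irr 𝒜) χ).1 hz
  have h1 : toSumHom 𝒜 ℳ (max k l) χ = 0 := by
    show toSum 𝒜 ℳ χ = 0
    rw [← toSum_pMap 𝒜 ℳ hm χ, h0]
    exact map_zero (toSumHom 𝒜 ℳ m)
  rw [map_sub, sub_eq_zero] at h1
  rwa [← toSum_pMap 𝒜 ℳ (le_max_left k l) φ, ← toSum_pMap 𝒜 ℳ (le_max_right k l) ψ]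

/-- From the ideal transform to the sections. -/
def toGam : (LocCoh.idealTransform (irr 𝒜)).obj (ModuleCat.of R M) →+ Gam 𝒜 ℳ :=
  AddMonoidHom.mk' (fun z => toSum 𝒜 ℳ (exists_toD (irr 𝒜) z).choose_spec.choose) fun a b => by
    generalize hab : (exists_toD (irr 𝒜) (a + b)).choose_spec.choose = χ
    have hχ : toD (irr 𝒜) _ _ χ = a + b := hab ▸ (exists_toD (irr 𝒜) (a + b)).choose_spec.choose_spec
    generalize ha : (exists_toD (irr 𝒜) a).choose_spec.choose = φ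
    have hφ : toD (irr 𝒜) _ _ φ = a := ha ▸ (exists_toD (irr 𝒜) a).choose_spec.choose_spec
    generalize hb : (exists_toD (irr 𝒜) b).choose_spec.choose = ψ
    have hψ : toD (irr 𝒜) _ _ ψ = b := hb ▸ (exists_toD (irr 𝒜) b).choose_spec.choose_spec
    rw [← toSum_pMap 𝒜 ℳ (le_max_left _ _) φ, ← toSum_pMap 𝒜 ℳ (le_max_right _ _) ψ, ← toSum_add]
    refine toSum_eq_of_toD_eq 𝒜 ℳ _ _ ?_
    rw [map_add, toD_res, toD_res, hχ, hφ, hψ]

theorem toGam_toD {k : ℕ} (φ : pObj (irr 𝒜) k ⟶ ModuleCat.of R M) : toGam 𝒜 ℳ (toD (irr 𝒜) _ k φ) = toSum 𝒜 ℳ φ :=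
  toSum_eq_of_toD_eq 𝒜 ℳ _ φ (exists_toD (irr 𝒜) (toD (irr 𝒜) _ k φ)).choose_spec.choose_spec

theorem toGam_toDT {i : ℕ} (x : ℳ i) :
    toGam 𝒜 ℳ (LocCoh.toDT (irr 𝒜) (ModuleCat.of R M) (x : M)) =
      DirectSum.of (fun n : ℤ => ((GrMod.tilde 𝒜 ℳ n).val.obj (op ⊤) : Type u)) (i : ℤ) (GrMod.alpha 𝒜 ℳ i x) := by
  rw [toDT_eq (irr 𝒜) (ModuleCat.of R M) (x : M) 0, toGam_toD]
  refine DFinsupp.ext fun n => ?_
  rw [toSum_apply]
  by_cases h : (i : ℤ) = n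
  · subst h
    rw [DirectSum.of_eq_same]
    refine GrModX.ext_val 𝒜 ℳ fun y => ?_
    obtain ⟨g, e, hg, hgk, hgy⟩ := exists_den 𝒜 0 y.1
    refine (val_sec 𝒜 ℳ _ _ y hg hgk hgy).trans ?_
    show _ = LocalizedModule.mk (x : M) 1
    rw [show app (smulMor (irr 𝒜) (ModuleCat.of R M) 0 (x : M)) hgk = g • (x : M) from rfl, cmp_smul 𝒜 ℳ hg,
      cmp_of_mem ℳ x.2, if_pos rfl, LocalizedModule.mk_eq]
    refine ⟨1, ?_⟩
    simp [Submonoid.smul_def]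
  · rw [DirectSum.of_eq_of_ne (β := fun n : ℤ => ((GrMod.tilde 𝒜 ℳ n).val.obj (op ⊤) : Type u)) _ _ _ (Ne.symm h)]
    refine GrModX.ext_val 𝒜 ℳ fun y => ?_
    obtain ⟨g, e, hg, hgk, hgy⟩ := exists_den 𝒜 0 y.1
    refine (val_sec 𝒜 ℳ _ _ y hg hgk hgy).trans ?_
    rw [show app (smulMor (irr 𝒜) (ModuleCat.of R M) 0 (x : M)) hgk = g • (x : M) from rfl, cmp_smul 𝒜 ℳ hg,
      cmp_of_mem ℳ x.2, if_neg h, smul_zero, LocalizedModule.zero_mk]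
    rfl

theorem mem_torsion_of_toSum {k : ℕ} (φ : pObj (irr 𝒜) k ⟶ ModuleCat.of R M) (h : toSum 𝒜 ℳ φ = 0) {f : R}
    (hf : f ∈ (irr 𝒜) ^ k) : app φ hf ∈ DRing.torsionSub (irr 𝒜) M := by
  classical
  have key : ∀ (d : ℕ) (f : R) (_ : f ∈ 𝒜 d) (hf : f ∈ (irr 𝒜) ^ k), app φ hf ∈ DRing.torsionSub (irr 𝒜) M := by
    intro d f hfd hf
    rw [← sum_support_decompose ℳ (app φ hf)]
    refine Submodule.sum_mem _ fun i _ => (Groth.Agent.S15549.result 𝒜 ℳ i (decompose ℳ (app φ hf) i)).1 ?_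
    refine GrModX.ext_val 𝒜 ℳ fun y => ?_
    obtain ⟨g, e, hg, hgk, hgy⟩ := exists_den 𝒜 k y.1
    show LocalizedModule.mk (decompose ℳ (app φ hf) i : M) 1 = (0 : GrMod.LocMod 𝒜 (M := M) y.1)
    have h0 : sec 𝒜 ℳ φ ((i : ℤ) - d) = 0 := by rw [← toSum_apply, h]; rfl
    have h1 := (val_sec 𝒜 ℳ φ ((i : ℤ) - d) y hg hgk hgy).symm
    rw [h0] at h1
    obtain ⟨c, hc, hcm⟩ := (mk_eq_zero_iff 𝒜 y.1 _ _).1 (h1.trans rfl)
    have h2 := frac_eq 𝒜 ℳ φ ((i : ℤ) - d) hfd hg hf hgk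
    rw [show (d : ℤ) + ((i : ℤ) - d) = i by ring, cmp_natCast] at h2
    refine (mk_eq_zero_iff 𝒜 y.1 _ _).2 ⟨c * g, fun hh => (y.1.isPrime.mem_or_mem hh).elim hc hgy, ?_⟩
    rw [mul_smul, h2, smul_comm, hcm, smul_zero]
  let c : R → ↥((irr 𝒜) ^ k) := fun r => if hr : r ∈ (irr 𝒜) ^ k then ⟨r, hr⟩ else 0
  have hsum : (⟨f, hf⟩ : ↥((irr 𝒜) ^ k)) = ∑ d ∈ (decompose 𝒜 f).support,
      (⟨(decompose 𝒜 f d : R), isHomogeneous_pow 𝒜 k d hf⟩ : ↥((irr 𝒜) ^ k)) :=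
    Subtype.ext (by rw [AddSubmonoidClass.coe_finsetSum]; exact (sum_support_decompose 𝒜 f).symm)
  show φ.hom ⟨f, hf⟩ ∈ _
  rw [hsum, map_sum]
  exact Submodule.sum_mem _ fun d _ => key d _ (SetLike.coe_mem _) _

theorem toGam_injective : Function.Injective (toGam 𝒜 ℳ) := by
  rw [injective_iff_map_eq_zero]
  intro z hz
  obtain ⟨k, φ, rfl⟩ := exists_toD (irr 𝒜) z
  rw [toGam_toD] at hz
  obtain ⟨T, hT⟩ := IsNoetherian.noetherian ((irr 𝒜) ^ k)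
  have hl : ∀ r ∈ T, ∃ l, ∀ hr : r ∈ (irr 𝒜) ^ k, ∀ a ∈ (irr 𝒜) ^ l, a • app φ hr = 0 := fun r hr => by
    obtain ⟨l, hl⟩ := mem_torsion_of_toSum 𝒜 ℳ φ hz (hT.le (Ideal.subset_span hr))
    exact ⟨l, fun _ => hl⟩
  choose! l hl using hl
  refine (toD_eq_zero_iff (irr 𝒜) φ).2 ⟨k + T.sup l, Nat.le_add_right _ _, ModuleCat.hom_ext (LinearMap.ext fun w => ?_)⟩
  have h1 : ∀ f (hf : f ∈ (irr 𝒜) ^ k), ∀ a ∈ (irr 𝒜) ^ T.sup l, a • app φ hf = 0 := by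
    intro f hf a ha
    have hmem : f ∈ Submodule.span R (T : Set R) := hT.ge hf
    induction hmem using Submodule.span_induction with
    | mem x hx => exact hl x hx hf a (Ideal.pow_le_pow_right (Finset.le_sup hx) ha)
    | zero =>
      show a • φ.hom ⟨0, hf⟩ = 0
      rw [show (⟨0, hf⟩ : ↥((irr 𝒜) ^ k)) = 0 from rfl, map_zero, smul_zero]
    | add x y hx hy ihx ihy =>
      show a • φ.hom ⟨x + y, hf⟩ = 0
      rw [show (⟨x + y, hf⟩ : ↥((irr 𝒜) ^ k)) = ⟨x, hT.le hx⟩ + ⟨y, hT.le hy⟩ from rfl, map_add, smul_add]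
      exact (congrArg₂ (· + ·) (ihx (hT.le hx)) (ihy (hT.le hy))).trans (add_zero 0)
    | smul r x hx ih =>
      show a • φ.hom ⟨r • x, hf⟩ = 0
      rw [show (⟨r • x, hf⟩ : ↥((irr 𝒜) ^ k)) = r • ⟨x, hT.le hx⟩ from rfl, map_smul, smul_comm]
      exact (congrArg (r • ·) (ih (hT.le hx))).trans (smul_zero r)
  show φ.hom ⟨w.1, _⟩ = 0
  have hw : w.1 ∈ (irr 𝒜) ^ k * (irr 𝒜) ^ T.sup l := pow_add (irr 𝒜) k (T.sup l) ▸ w.2
  suffices h2 : ∀ x (_ : x ∈ (irr 𝒜) ^ k * (irr 𝒜) ^ T.sup l) (hx : x ∈ (irr 𝒜) ^ k), φ.hom ⟨x, hx⟩ = 0 from h2 _ hw _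
  intro x hxm
  induction hxm using Submodule.mul_induction_on' with
  | mem_mul_mem m hm a ha =>
    intro hx
    rw [show (⟨m * a, hx⟩ : ↥((irr 𝒜) ^ k)) = a • ⟨m, hm⟩ from Subtype.ext (mul_comm m a), map_smul]
    exact h1 m hm a ha
  | add x hx y hy ihx ihy =>
    intro hxy
    rw [show (⟨x + y, hxy⟩ : ↥((irr 𝒜) ^ k)) = ⟨x, Ideal.mul_le_left hx⟩ + ⟨y, Ideal.mul_le_left hy⟩ from rfl,
      map_add, ihx, ihy, add_zero]

theorem exists_map_of_section (n : ℤ) (s : Γ(GrMod.tilde 𝒜 ℳ n, (⊤ : (Proj 𝒜).Opens))) :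
    ∃ (k : ℕ) (φ : pObj (irr 𝒜) k ⟶ ModuleCat.of R M),
      toSum 𝒜 ℳ φ = DirectSum.of (fun n : ℤ => ((GrMod.tilde 𝒜 ℳ n).val.obj (op ⊤) : Type u)) n s := by
  classical
  obtain ⟨N, f, d, hd, hfd, hfa, hspan⟩ := exists_gens 𝒜
  choose k m hm hval using fun j => exists_frac 𝒜 ℳ (hd j) (hfd j) n
    ((GrMod.tilde 𝒜 ℳ n).presheaf.map (homOfLE (le_top : Proj.basicOpen 𝒜 (f j) ≤ ⊤)).op s)
  let K := ∑ j, k j
  let m' : Fin N → M := fun j => f j ^ (K - k j) • m j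
  have hkK : ∀ j, k j ≤ K := fun j => Finset.single_le_sum (fun _ _ => Nat.zero_le _) (Finset.mem_univ j)
  have hm' : ∀ j, Deg ℳ (((K * d j : ℕ) : ℤ) + n) (m' j) := fun j =>
    ((hm j).smul 𝒜 (pow_mem_deg 𝒜 (hfd j) (K - k j))).congr (by
      push_cast [Nat.cast_sub (hkK j)]; ring)
  have hval' : ∀ (j : Fin N) (y : (⊤ : (Proj 𝒜).Opens)) (hy : f j ∉ y.1.asHomogeneousIdeal),
      GrMod.val s y = LocalizedModule.mk (m' j) ⟨f j ^ K, GrModX.pow_notMem y.1.isPrime hy K⟩ := by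
    intro j y hy
    have h1 := hval j ⟨y.1, hy⟩
    rw [GrModX.val_res] at h1
    refine h1.trans ?_
    rw [LocalizedModule.mk_eq]
    refine ⟨1, ?_⟩
    simp only [one_smul, Submonoid.smul_def, m']
    rw [smul_smul, ← pow_add, Nat.add_sub_cancel' (hkK j)]
  have hagree : ∀ a b : Fin N, ∃ L : ℕ, (f a * f b) ^ L • (f b ^ K • m' a - f a ^ K • m' b) = 0 := by
    intro a b
    refine exists_pow_smul_eq_zero 𝒜 (Nat.add_pos_left (hd a) (d b))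
      (SetLike.mul_mem_graded (hfd a) (hfd b)) (z := (((K * d a : ℕ) : ℤ) + ((K * d b : ℕ) : ℤ) + n))
      ((((hm' a).smul 𝒜 (pow_mem_deg 𝒜 (hfd b) K)).congr (by ring)).sub
        (((hm' b).smul 𝒜 (pow_mem_deg 𝒜 (hfd a) K)).congr (by ring))) ?_
    intro y hy
    have hya : f a ∉ y.asHomogeneousIdeal := fun h => hy (y.asHomogeneousIdeal.toIdeal.mul_mem_right _ h)
    have hyb : f b ∉ y.asHomogeneousIdeal := fun h => hy (y.asHomogeneousIdeal.toIdeal.mul_mem_left _ h)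
    have h1 := (hval' a ⟨y, trivial⟩ hya).symm.trans (hval' b ⟨y, trivial⟩ hyb)
    rw [LocalizedModule.mk_eq] at h1
    obtain ⟨u, hu⟩ := h1
    refine ⟨u.1, u.2, ?_⟩
    simp only [Submonoid.smul_def] at hu
    rw [smul_sub, sub_eq_zero]
    exact hu
  choose L hL using hagree
  let L₀ := ∑ a : Fin N, ∑ b : Fin N, L a b
  have hL₀ : ∀ a b : Fin N, (f a * f b) ^ L₀ • (f b ^ K • m' a - f a ^ K • m' b) = 0 := by
    intro a b
    have hle : L a b ≤ L₀ :=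
      (Finset.single_le_sum (f := fun b => L a b) (fun _ _ => Nat.zero_le _) (Finset.mem_univ b)).trans
        (Finset.single_le_sum (f := fun a => ∑ b : Fin N, L a b) (fun _ _ => Nat.zero_le _) (Finset.mem_univ a))
    obtain ⟨r, hr⟩ := Nat.exists_eq_add_of_le' hle
    rw [hr, pow_add, mul_smul, hL a b, smul_zero]
  let P := L₀ + K
  let μ : Fin N → M := fun j => f j ^ L₀ • m' j
  have hμ : ∀ a b, f b ^ P • μ a = f a ^ P • μ b := by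
    intro a b
    have e1 : ∀ a b : Fin N, f b ^ P * f a ^ L₀ = (f a * f b) ^ L₀ * f b ^ K := fun a b => by simp only [P]; ring
    simp only [μ, smul_smul, e1]
    rw [mul_comm (f b) (f a), mul_smul, mul_smul]
    exact sub_eq_zero.1 ((smul_sub _ _ _).symm.trans (hL₀ a b))
  -- Artin–Rees on the submodule spanned by the `μ j`
  let M' : Submodule R M := Submodule.span R (Set.range μ)
  haveI : Module.Finite R M' := Module.Finite.iff_fg.2 (Submodule.fg_span (Set.finite_range μ))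
  let T : Submodule R M' := DRing.torsionSub (irr 𝒜) M'
  obtain ⟨S, hS⟩ := IsNoetherian.noetherian T
  have hl : ∀ w ∈ S, ∃ l, ∀ a ∈ (irr 𝒜) ^ l, a • w = 0 := fun w hw => hS.le (Submodule.subset_span hw)
  choose! l hl using hl
  obtain ⟨c₀, hc₀⟩ := Ideal.exists_pow_inf_eq_pow_smul (irr 𝒜) T
  let c := c₀ + S.sup l
  have hkill : ∀ w : M', w ∈ (irr 𝒜) ^ c • (⊤ : Submodule R M') → w ∈ T → w = 0 := by
    intro w hw hwT
    have hmem : w ∈ (irr 𝒜) ^ c • ⊤ ⊓ T := ⟨hw, hwT⟩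
    rw [hc₀ c (Nat.le_add_right _ _), show c - c₀ = S.sup l from Nat.add_sub_cancel_left _ _] at hmem
    refine Submodule.smul_induction_on hmem (fun a ha t ht => ?_) (fun u v hu hv => by rw [hu, hv, add_zero])
    have hT0 : ∀ t ∈ Submodule.span R (S : Set M'), a • t = 0 := fun t ht' => by
      induction ht' using Submodule.span_induction with
      | mem x hx => exact hl x hx a (Ideal.pow_le_pow_right (Finset.le_sup hx) ha)
      | zero => exact smul_zero a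
      | add u v _ _ hu hv => rw [smul_add, hu, hv, add_zero]
      | smul r u _ hu => rw [smul_comm, hu, smul_zero]
    exact hT0 t (hS.ge ht.2)
  let Q := P + c
  let J : Ideal R := Ideal.span (Set.range fun j => f j ^ Q)
  let lin : (Fin N → R) →ₗ[R] M := Fintype.linearCombination R fun j => f j ^ c • μ j
  let gen : (Fin N → R) →ₗ[R] R := Fintype.linearCombination R fun j => f j ^ Q
  have hwd : ∀ r, gen r = 0 → lin r = 0 := by
    intro r hr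
    rw [Fintype.linearCombination_apply] at hr ⊢
    let w : M' := ∑ j, r j • f j ^ c • ⟨μ j, Submodule.subset_span ⟨j, rfl⟩⟩
    have hw : (w : M) = ∑ j, r j • f j ^ c • μ j := by
      simp [w, AddSubmonoidClass.coe_finsetSum]
    rw [← hw]
    suffices w = 0 by rw [this]; rfl
    refine hkill w (Submodule.sum_mem _ fun j _ => Submodule.smul_mem _ _ (Submodule.smul_mem_smul (Ideal.pow_mem_pow (hfa j) c) trivial)) ?_
    obtain ⟨p, hp⟩ : ∃ p, (irr 𝒜) ^ p ≤ Submodule.annihilator (Submodule.span R {w}) := by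
      refine Ideal.exists_pow_le_of_le_radical_of_fg (hspan.le.trans (Ideal.span_le.2 ?_)) (IsNoetherian.noetherian _)
      rintro _ ⟨b, rfl⟩
      refine ⟨P, (Submodule.mem_annihilator_span_singleton _ _).2 (Subtype.ext ?_)⟩
      rw [SetLike.val_smul, hw, Finset.smul_sum]
      refine Eq.trans (Finset.sum_congr rfl fun j _ => ?_) (show ∑ j, (r j • f j ^ Q) • μ b = 0 by
        rw [← Finset.sum_smul, hr, zero_smul])
      rw [smul_comm (f b ^ P), smul_comm (f b ^ P) (f j ^ c), hμ j b, smul_smul, smul_smul, smul_eq_mul]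
      congr 1
      simp only [Q]; ring
    exact ⟨p, fun a ha => (Submodule.mem_annihilator_span_singleton _ _).1 (hp ha)⟩
  let φJ : LinearMap.range gen →ₗ[R] M :=
    ((LinearMap.ker gen).liftQ lin fun r hr => hwd r hr) ∘ₗ gen.quotKerEquivRange.symm.toLinearMap
  have hφJ : ∀ r (hr : gen r ∈ LinearMap.range gen), φJ ⟨gen r, hr⟩ = lin r := fun r hr => by
    refine (congrArg ((LinearMap.ker gen).liftQ lin fun r hr => hwd r hr) ?_).trans (Submodule.liftQ_apply _ _ r)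
    exact gen.quotKerEquivRange_symm_apply_image r hr
  have hrad : (irr 𝒜) ≤ J.radical := hspan.le.trans (Ideal.span_le.2 fun r ⟨j, hj⟩ => hj ▸ ⟨Q, Ideal.subset_span ⟨j, rfl⟩⟩)
  obtain ⟨k₁, hk₁⟩ := Ideal.exists_pow_le_of_le_radical_of_fg hrad (IsNoetherian.noetherian _)
  have hJ : ∀ r ∈ J, r ∈ LinearMap.range gen := fun r hr => by
    obtain ⟨v, hv⟩ := Ideal.mem_span_range_iff_exists_fun.1 hr
    exact ⟨v, by rw [Fintype.linearCombination_apply]; exact hv⟩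
  let φ : pObj (irr 𝒜) k₁ ⟶ ModuleCat.of R M :=
    ModuleCat.ofHom (φJ ∘ₗ Submodule.inclusion (p := (irr 𝒜) ^ k₁) (p' := LinearMap.range gen) fun r hr => hJ r (hk₁ hr))
  have happ : ∀ j (h : f j ^ (k₁ + Q) ∈ (irr 𝒜) ^ k₁), app φ h = f j ^ (k₁ + c) • μ j := by
    intro j h
    have hg : gen (Pi.single j (f j ^ k₁)) = f j ^ (k₁ + Q) := by
      rw [Fintype.linearCombination_apply, Finset.sum_eq_single j (fun b _ hb => by rw [Pi.single_eq_of_ne hb, zero_smul])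
        (fun hh => absurd (Finset.mem_univ j) hh), Pi.single_eq_same, smul_eq_mul, pow_add]
      simp only [Q, pow_add]
    show φJ ⟨f j ^ (k₁ + Q), _⟩ = _
    rw [show (⟨f j ^ (k₁ + Q), hJ _ (hk₁ h)⟩ : LinearMap.range gen) = ⟨gen (Pi.single j (f j ^ k₁)), ⟨_, rfl⟩⟩ from
      Subtype.ext hg.symm, hφJ, Fintype.linearCombination_apply,
      Finset.sum_eq_single j (fun b _ hb => by rw [Pi.single_eq_of_ne hb, zero_smul])
        (fun hh => absurd (Finset.mem_univ j) hh), Pi.single_eq_same, smul_smul, ← pow_add]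
  refine ⟨k₁, φ, DFinsupp.ext fun n' => ?_⟩
  rw [toSum_apply]
  have hdeg : ∀ j, Deg ℳ ((((k₁ + Q) * d j : ℕ) : ℤ) + n) (f j ^ (k₁ + c) • μ j) := fun j =>
    ((((hm' j).smul 𝒜 (pow_mem_deg 𝒜 (hfd j) L₀))).smul 𝒜 (pow_mem_deg 𝒜 (hfd j) (k₁ + c))).congr (by
      simp only [Q, P]; push_cast; ring)
  have hmem : ∀ j, f j ^ (k₁ + Q) ∈ (irr 𝒜) ^ k₁ := fun j =>
    Ideal.pow_le_pow_right (Nat.le_add_right _ _) (Ideal.pow_mem_pow (hfa j) _)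
  by_cases h : n = n'
  · subst h
    rw [DirectSum.of_eq_same]
    refine GrModX.ext_val 𝒜 ℳ fun y => ?_
    obtain ⟨j, hj⟩ := exists_gen_notMem 𝒜 hspan y.1
    refine (val_sec 𝒜 ℳ φ n y (pow_mem_deg 𝒜 (hfd j) _) (hmem j) (GrModX.pow_notMem y.1.isPrime hj _)).trans ?_
    rw [hval' j y hj, happ, cmp_of_deg ℳ (hdeg j), if_pos rfl, LocalizedModule.mk_eq]
    refine ⟨1, ?_⟩
    simp only [one_smul, Submonoid.smul_def, μ, smul_smul, ← pow_add]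
    congr 2
    simp only [Q, P]; ring
  · rw [DirectSum.of_eq_of_ne (β := fun n : ℤ => ((GrMod.tilde 𝒜 ℳ n).val.obj (op ⊤) : Type u)) _ _ _ (Ne.symm h)]
    refine GrModX.ext_val 𝒜 ℳ fun y => ?_
    obtain ⟨j, hj⟩ := exists_gen_notMem 𝒜 hspan y.1
    refine (val_sec 𝒜 ℳ φ n' y (pow_mem_deg 𝒜 (hfd j) _) (hmem j) (GrModX.pow_notMem y.1.isPrime hj _)).trans ?_
    rw [happ, cmp_of_deg ℳ (hdeg j), if_neg (by omega), LocalizedModule.zero_mk]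
    rfl

theorem toGam_surjective : Function.Surjective (toGam 𝒜 ℳ) := by
  intro v
  induction v using DirectSum.induction_on with
  | zero => exact ⟨0, map_zero _⟩
  | of n s =>
    obtain ⟨k, φ, hφ⟩ := exists_map_of_section 𝒜 ℳ n s
    exact ⟨toD (irr 𝒜) _ k φ, (toGam_toD 𝒜 ℳ φ).trans hφ⟩
  | add a b ha hb =>
    obtain ⟨a', rfl⟩ := ha
    obtain ⟨b', rfl⟩ := hb
    exact ⟨a' + b', map_add _ _ _⟩

theorem nonempty_coker_equiv :
    Nonempty ((Gam 𝒜 ℳ) ⧸ AddSubgroup.closure (⋃ i : ℕ, Set.range (fun m : ℳ i =>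
      DirectSum.of (fun n : ℤ => ((GrMod.tilde 𝒜 ℳ n).val.obj (op ⊤) : Type u)) (i : ℤ) (GrMod.alpha 𝒜 ℳ i m))) ≃+
      (localCohomology (irr 𝒜) 1).obj (ModuleCat.of R M)) := by
  obtain ⟨e⟩ := nonempty_cokerToDT (irr 𝒜) (ModuleCat.of R M)
  let Φ := AddEquiv.ofBijective (toGam 𝒜 ℳ) ⟨toGam_injective 𝒜 ℳ, toGam_surjective 𝒜 ℳ⟩
  refine ⟨(QuotientAddGroup.congr (LinearMap.range (LocCoh.toDT (irr 𝒜) (ModuleCat.of R M))).toAddSubgroup _ Φ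
    (le_antisymm ?_ ((AddSubgroup.closure_le _).2 ?_))).symm.trans e.toAddEquiv⟩
  · rintro _ ⟨_, ⟨x, rfl⟩, rfl⟩
    classical
    change toGam 𝒜 ℳ (LocCoh.toDT (irr 𝒜) (ModuleCat.of R M) x) ∈ _
    have hx := sum_support_decompose ℳ (x : M)
    conv => arg 2; rw [show x = ∑ i ∈ (decompose ℳ (x : M)).support, (decompose ℳ (x : M) i : M) from hx.symm]
    rw [map_sum, map_sum]
    exact AddSubgroup.sum_mem _ fun i _ => by
      rw [toGam_toDT]; exact AddSubgroup.subset_closure (Set.mem_iUnion.2 ⟨i, _, rfl⟩)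
  · intro v hv
    obtain ⟨i, m, rfl⟩ := Set.mem_iUnion.1 hv
    exact ⟨_, ⟨(m : M), rfl⟩, toGam_toDT 𝒜 ℳ m⟩

end Groth.Agent.GammaStar6
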